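import Mathlib

/-!
# Deviations of functions on compact abelian groups and multi-cocycles
-/

open MeasureTheory Finset

universe u

namespace DevLib

section meas

variable {G : Type u} [TopologicalSpace G] [CompactSpace G] [T2Space G] [MeasurableSpace G]
  [BorelSpace G]

theorem measurable_pi_of_continuous {ι : Type*} [Finite ι] {f : (ι → G) → ℝ} (hf : Continuous f) :
    Measurable f := by
  let A : Subalgebra ℝ C(ι → G, ℝ) :=
    { carrier := {g | Measurable g}
      mul_mem' := fun ha hb => Measurable.mul ha hb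
      add_mem' := fun ha hb => Measurable.add ha hb
      algebraMap_mem' := fun r => measurable_const }
  have hA : A.SeparatesPoints := by
    intro x y hxy
    obtain ⟨i, hi⟩ := Function.ne_iff.1 hxy
    obtain ⟨g, hgx, hgy, -⟩ := exists_continuous_zero_one_of_isClosed (isClosed_singleton (x := x i))
      (isClosed_singleton (x := y i)) (Set.disjoint_singleton.2 hi)
    let g' : C(ι → G, ℝ) := g.comp ⟨fun z => z i, continuous_apply i⟩
    refine ⟨g', ⟨g', g.continuous.measurable.comp (measurable_pi_apply i), rfl⟩, ?_⟩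
    show g (x i) ≠ g (y i)
    rw [hgx (Set.mem_singleton _), hgy (Set.mem_singleton _)]
    simp
  have h := ContinuousMap.continuousMap_mem_subalgebra_closure_of_separatesPoints A hA ⟨f, hf⟩
  obtain ⟨s, hs, hlim⟩ := mem_closure_iff_seq_limit.1 h
  refine measurable_of_tendsto_metrizable (f := fun n => ⇑(s n)) (fun n => hs n) ?_
  rw [tendsto_pi_nhds]
  intro x
  exact ((continuous_eval_const x).tendsto (⟨f, hf⟩ : C(ι → G, ℝ))).comp hlim

variable (μ : Measure G) [IsProbabilityMeasure μ]

theorem integrable_pi {m : ℕ} {f : (Fin m → G) → ℝ} (hf : Continuous f) :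
    Integrable f (Measure.pi fun _ : Fin m => μ) :=
  Integrable.of_bound (measurable_pi_of_continuous hf).aestronglyMeasurable
    ‖(⟨f, hf⟩ : C(Fin m → G, ℝ))‖ (Filter.Eventually.of_forall fun x =>
      ContinuousMap.norm_coe_le_norm (⟨f, hf⟩ : C(Fin m → G, ℝ)) x)

theorem integrable_one {f : G → ℝ} (hf : Continuous f) : Integrable f μ :=
  hf.integrable_of_hasCompactSupport (HasCompactSupport.of_compactSpace f)

theorem continuous_integral {X : Type*} [TopologicalSpace X] {K : Type*} [TopologicalSpace K]
    [CompactSpace K] [MeasurableSpace K] (ν : Measure K) [IsProbabilityMeasure ν]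
    (hK : ∀ g : K → ℝ, Continuous g → Integrable g ν) {f : X → K → ℝ}
    (hf : Continuous (Function.uncurry f)) : Continuous fun x => ∫ k, f x k ∂ν := by
  let Φ : C(X, C(K, ℝ)) := ContinuousMap.curry ⟨Function.uncurry f, hf⟩
  have hI : LipschitzWith 1 (fun g : C(K, ℝ) => ∫ k, g k ∂ν) := by
    refine LipschitzWith.of_dist_le_mul fun a b => ?_
    rw [Real.dist_eq, ← integral_sub (hK _ a.continuous) (hK _ b.continuous), ← Real.norm_eq_abs,
      NNReal.coe_one, one_mul]
    refine (norm_integral_le_of_norm_le_const (C := dist a b) (Filter.Eventually.of_forall fun k => ?_)).trans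
      (le_of_eq (by simp))
    rw [← dist_eq_norm]
    exact ContinuousMap.dist_apply_le_dist k
  exact hI.continuous.comp Φ.continuous

theorem integral_pi_succ {m : ℕ} {f : (Fin (m + 1) → G) → ℝ} (hf : Continuous f) :
    ∫ v, f v ∂(Measure.pi fun _ : Fin (m + 1) => μ) =
      ∫ a, ∫ u, f (Fin.cons a u) ∂(Measure.pi fun _ : Fin m => μ) ∂μ ∧
    ∫ v, f v ∂(Measure.pi fun _ : Fin (m + 1) => μ) =
      ∫ u, ∫ a, f (Fin.cons a u) ∂μ ∂(Measure.pi fun _ : Fin m => μ) := by
  have h := measurePreserving_piFinSuccAbove (fun _ : Fin (m + 1) => μ) 0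
  let e := MeasurableEquiv.piFinSuccAbove (fun _ : Fin (m + 1) => G) 0
  have hfe : ∀ p, f (e.symm p) = f (Fin.cons p.1 p.2) := fun p => by
    simp [e]
    rfl
  have hint : Integrable (fun p : G × (Fin m → G) => f (Fin.cons p.1 p.2))
      (μ.prod (Measure.pi fun _ : Fin m => μ)) := by
    have := (h.symm e).integrable_comp_of_integrable (integrable_pi μ hf)
    refine this.congr (Filter.Eventually.of_forall fun p => ?_)
    exact hfe p
  have h1 : ∫ v, f v ∂(Measure.pi fun _ : Fin (m + 1) => μ) =
      ∫ p, f (Fin.cons p.1 p.2) ∂(μ.prod (Measure.pi fun _ : Fin m => μ)) := by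
    rw [← integral_congr_ae (Filter.Eventually.of_forall fun p => hfe p)]
    exact ((h.symm e).integral_comp e.symm.measurableEmbedding f).symm
  exact ⟨h1.trans (integral_prod _ hint), h1.trans (integral_prod_symm _ hint)⟩

end meas

section comb

variable {G : Type u} [AddCommGroup G]

/-- Alternating sum over all subsets. -/
def E (n : ℕ) (φ : G → ℝ) (x : Fin n → G) : ℝ :=
  ∑ I ∈ (univ : Finset (Fin n)).powerset, (-1 : ℝ) ^ (n + I.card) * φ (∑ i ∈ I, x i)

theorem E_succ (n : ℕ) (φ : G → ℝ) (a : G) (r : Fin n → G) :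
    E (n + 1) φ (Fin.cons a r) = E n (fun g => φ (a + g)) r - E n φ r := by
  have hu : (univ : Finset (Fin (n + 1))) = insert 0 (univ.image Fin.succ) := by
    ext i
    simp [Fin.exists_succ_eq, em]
  have h0 : (0 : Fin (n + 1)) ∉ (univ : Finset (Fin n)).image Fin.succ := by simp
  rw [E, hu, sum_powerset_insert h0, powerset_image]
  have hinj : Set.InjOn (fun J : Finset (Fin n) => J.image Fin.succ) ↑(univ : Finset (Fin n)).powerset :=
    fun J _ J' _ h => image_injective (Fin.succ_injective n) h
  rw [sum_image hinj, sum_image hinj, E, E, ← sum_add_distrib, ← sum_sub_distrib]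
  refine sum_congr rfl fun J _ => ?_
  have hJ : (0 : Fin (n + 1)) ∉ J.image Fin.succ := by simp
  rw [sum_insert hJ, card_insert_of_notMem hJ, card_image_of_injective _ (Fin.succ_injective n),
    sum_image (fun i _ j _ h => Fin.succ_injective n h)]
  simp only [Fin.cons_zero, Fin.cons_succ]
  rw [show n + 1 + (J.card + 1) = n + J.card + 2 by omega,
    show n + 1 + J.card = n + J.card + 1 by omega, pow_succ, pow_succ, pow_succ]
  ring

/-- The deviation. -/
def Dev (n : ℕ) (φ : G → ℝ) (x : Fin n → G) : ℝ :=
  ∑ I ∈ ((univ : Finset (Fin n)).powerset.erase ∅), (-1 : ℝ) ^ (n + I.card) * φ (∑ i ∈ I, x i)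

theorem Dev_eq (n : ℕ) (φ : G → ℝ) (x : Fin n → G) :
    Dev n φ x = E n φ x - (-1 : ℝ) ^ n * φ 0 := by
  rw [Dev, sum_erase_eq_sub (empty_mem_powerset _)]
  simp [E]

theorem Dev_succ_succ (n : ℕ) (φ : G → ℝ) (a b : G) (r : Fin n → G) :
    Dev (n + 2) φ (Fin.cons a (Fin.cons b r)) =
      Dev (n + 1) φ (Fin.cons (a + b) r) - Dev (n + 1) φ (Fin.cons a r) -
        Dev (n + 1) φ (Fin.cons b r) := by
  simp only [Dev_eq, E_succ, add_assoc, pow_succ]
  ring

theorem Dev_one (φ : G → ℝ) (x : Fin 1 → G) : Dev 1 φ x = φ (x 0) := by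
  rw [← Fin.cons_self_tail x, Dev_eq, E_succ]
  simp [E]

end comb

section main

variable {G : Type u} [AddCommGroup G] [TopologicalSpace G] [IsTopologicalAddGroup G]

/-- Cocycle condition in each pair of variables. -/
def IsCocycle {n : ℕ} (ψ : (Fin n → G) → ℝ) : Prop :=
  ∀ (i j : Fin n), i ≠ j → ∀ (x : Fin n → G) (a b c : G),
    ψ (Function.update (Function.update x i (a + b)) j c) +
        ψ (Function.update (Function.update x i a) j b) =
      ψ (Function.update (Function.update x i a) j (b + c)) +
        ψ (Function.update (Function.update x i b) j c)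

variable [CompactSpace G] [T2Space G] [MeasurableSpace G] [BorelSpace G] (μ : Measure G)
  [μ.IsAddHaarMeasure] [IsProbabilityMeasure μ]

/-- The primitive. -/
noncomputable def F {m : ℕ} (ψ : (Fin (m + 1) → G) → ℝ) (g : G) : ℝ :=
  (-1 : ℝ) ^ m * ∫ u, ψ (Fin.cons g u) ∂(Measure.pi fun _ : Fin m => μ)

theorem continuous_F {m : ℕ} {ψ : (Fin (m + 1) → G) → ℝ} (hc : Continuous ψ) :
    Continuous (F μ ψ) :=
  continuous_const.mul (continuous_integral (Measure.pi fun _ : Fin m => μ)
    (fun _ h => integrable_pi μ h) (f := fun g u => ψ (Fin.cons g u))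
    (hc.comp (Continuous.finCons (A := fun _ : Fin (m + 1) => G) continuous_fst continuous_snd)))

theorem integral_translate (f : G → ℝ) (b : G) : ∫ c, f (b + c) ∂μ = ∫ c, f c ∂μ :=
  integral_add_left_eq_self f b

theorem eq_dev : ∀ (m : ℕ) (ψ : (Fin (m + 1) → G) → ℝ), Continuous ψ → IsCocycle ψ →
    ∀ x, ψ x = Dev (m + 1) (F μ ψ) x
  | 0, ψ, _, _, x => by
    rw [Dev_one, F]
    rw [integral_unique]
    simp only [pow_zero, one_mul, probReal_univ, one_smul]
    congr 1
    funext i
    rw [Fin.eq_zero i, Fin.cons_zero]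
  | m + 1, ψ, hc, hψ, x => by
    let ψ' : (Fin (m + 1) → G) → ℝ := fun y => -∫ b, ψ (Fin.insertNth 1 b y) ∂μ
    have hins : Continuous fun p : (Fin (m + 1) → G) × G => ψ (Fin.insertNth 1 p.2 p.1) :=
      hc.comp (Continuous.finInsertNth (A := fun _ : Fin (m + 2) => G) 1 continuous_snd continuous_fst)
    have hc' : Continuous ψ' :=
      (continuous_integral μ (fun _ h => integrable_one μ h)
        (f := fun y b => ψ (Fin.insertNth 1 b y)) hins).neg
    have hi : ∀ y, Integrable (fun b => ψ (Fin.insertNth 1 b y)) μ := fun y =>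
      integrable_one μ (hins.comp (continuous_const.prodMk continuous_id))
    have hψ' : IsCocycle ψ' := by
      intro i j hij y a b c
      have key : ∀ t, ψ (Fin.insertNth 1 t (Function.update (Function.update y i (a + b)) j c)) +
          ψ (Fin.insertNth 1 t (Function.update (Function.update y i a) j b)) =
          ψ (Fin.insertNth 1 t (Function.update (Function.update y i a) j (b + c))) +
          ψ (Fin.insertNth 1 t (Function.update (Function.update y i b) j c)) := fun t => by
        simp only [Fin.insertNth_update]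
        exact hψ _ _ (fun h => hij (Fin.succAbove_right_injective h)) _ a b c
      simp only [ψ']
      rw [← neg_add, ← neg_add, ← integral_add (hi _) (hi _), ← integral_add (hi _) (hi _)]
      exact congrArg Neg.neg (integral_congr_ae (Filter.Eventually.of_forall key))
    have hcons : ∀ (b a : G) (r : Fin m → G),
        (Fin.insertNth 1 b (Fin.cons a r : Fin (m + 1) → G) : Fin (m + 2) → G) =
          Fin.cons a (Fin.cons b r : Fin (m + 1) → G) := by
      intro b a r
      rw [← Fin.succ_zero_eq_one, Fin.insertNth_succ_cons, Fin.insertNth_zero']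
    have hF : F μ ψ' = F μ ψ := funext fun g => by
      simp only [F, ψ', integral_neg]
      rw [(integral_pi_succ μ (f := fun u => ψ (Fin.cons g u))
        (hc.comp (continuous_const.finCons continuous_id))).2]
      simp only [hcons]
      ring
    have ih := eq_dev m ψ' hc' hψ'
    rw [hF] at ih
    obtain ⟨a, r', rfl⟩ : ∃ a r', x = Fin.cons a r' := ⟨x 0, Fin.tail x, (Fin.cons_self_tail x).symm⟩
    obtain ⟨b, r, rfl⟩ : ∃ b r, r' = Fin.cons b r := ⟨r' 0, Fin.tail r', (Fin.cons_self_tail r').symm⟩
    rw [Dev_succ_succ, ← ih, ← ih, ← ih]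
    have hu : ∀ a' c, Function.update (Function.update
        (Fin.cons a (Fin.cons b r) : Fin (m + 2) → G) 0 a') 1 c = Fin.cons a' (Fin.cons c r) := by
      intro a' c
      rw [Fin.update_cons_zero, ← Fin.succ_zero_eq_one, ← Fin.cons_update, Fin.update_cons_zero]
    have hz : ∀ c, ψ (Fin.cons (a + b) (Fin.cons c r)) + ψ (Fin.cons a (Fin.cons b r)) =
        ψ (Fin.cons a (Fin.cons (b + c) r)) + ψ (Fin.cons b (Fin.cons c r)) := fun c => by
      have := hψ 0 1 (by simp [Fin.ext_iff]) (Fin.cons a (Fin.cons b r)) a b c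
      simpa only [hu] using this
    have hi' : ∀ a', Integrable (fun c => ψ (Fin.cons a' (Fin.cons c r))) μ := fun a' => by
      simpa only [hcons] using hi (Fin.cons a' r)
    have hint := integral_congr_ae (μ := μ) (Filter.Eventually.of_forall hz)
    have hi'' : Integrable (fun c => ψ (Fin.cons a (Fin.cons (b + c) r))) μ :=
      integrable_one μ (hc.comp (Continuous.finCons (A := fun _ : Fin (m + 2) => G) continuous_const
        (Continuous.finCons (A := fun _ : Fin (m + 1) => G) (continuous_const.add continuous_id)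
          continuous_const)))
    rw [integral_add (hi' _) (integrable_const _), integral_add hi'' (hi' _),
      integral_translate μ (fun c => ψ (Fin.cons a (Fin.cons c r))) b, integral_const,
      probReal_univ, one_smul] at hint
    simp only [ψ', hcons]
    linarith

theorem integral_E (φ : G → ℝ) (hφ : Continuous φ) : ∀ m : ℕ,
    ∫ u, E (m + 1) φ u ∂(Measure.pi fun _ : Fin (m + 1) => μ) =
      (-1 : ℝ) ^ (m + 1) * (φ 0 - ∫ c, φ c ∂μ) := by
  have hEc : ∀ (n : ℕ) (f : G → ℝ), Continuous f → Continuous fun u : Fin n → G => E n f u :=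
    fun n f hf => continuous_finsetSum _ fun I _ =>
      continuous_const.mul (hf.comp (continuous_finsetSum _ fun i _ => continuous_apply i))
  intro m
  induction m generalizing φ with
  | zero =>
    rw [(integral_pi_succ μ (hEc 1 φ hφ)).1]
    simp only [E_succ, integral_unique, probReal_univ, one_smul]
    simp [E]
    rw [integral_sub (integrable_one μ hφ) (integrable_const _), integral_const, probReal_univ, one_smul]
  | succ m ih =>
    rw [(integral_pi_succ μ (hEc (m + 2) φ hφ)).1]
    simp only [E_succ (m + 1)]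
    have hsub : ∀ a : G, ∫ u, (E (m + 1) (fun g => φ (a + g)) u - E (m + 1) φ u)
        ∂(Measure.pi fun _ : Fin (m + 1) => μ) =
        (-1 : ℝ) ^ (m + 1) * (φ a - ∫ c, φ c ∂μ) - (-1 : ℝ) ^ (m + 1) * (φ 0 - ∫ c, φ c ∂μ) :=
      fun a => by
        rw [integral_sub (integrable_pi μ (hEc _ _ (by fun_prop))) (integrable_pi μ (hEc _ _ hφ)),
          ih φ hφ, ih _ (by fun_prop), integral_translate, add_zero]
    simp only [hsub]
    have I1 : Integrable (fun a => (-1 : ℝ) ^ (m + 1) * (φ a - ∫ c, φ c ∂μ)) μ :=
      ((integrable_one μ hφ).sub (integrable_const _)).const_mul _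
    rw [integral_sub I1 (integrable_const _),
      integral_const_mul, integral_sub (integrable_one μ hφ) (integrable_const _), integral_const,
      integral_const, probReal_univ, one_smul, one_smul]
    ring

theorem F_eq_of_dev {m : ℕ} (φ : G → ℝ) (hφ : Continuous φ) (ψ : (Fin (m + 2) → G) → ℝ)
    (h : ∀ x, ψ x = Dev (m + 2) φ x) : φ = F μ ψ := by
  have hEc : ∀ (n : ℕ) (f : G → ℝ), Continuous f → Continuous fun u : Fin n → G => E n f u :=
    fun n f hf => continuous_finsetSum _ fun I _ =>
      continuous_const.mul (hf.comp (continuous_finsetSum _ fun i _ => continuous_apply i))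
  funext g
  have hg : Continuous fun x => φ (g + x) := by fun_prop
  simp only [F, h, Dev_eq, E_succ (m + 1)]
  have I2 : Integrable (fun u => E (m + 1) (fun x => φ (g + x)) u - E (m + 1) φ u)
      (Measure.pi fun _ : Fin (m + 1) => μ) :=
    (integrable_pi μ (hEc _ _ hg)).sub (integrable_pi μ (hEc _ _ hφ))
  rw [integral_sub I2 (integrable_const _),
    integral_sub (integrable_pi μ (hEc _ _ hg)) (integrable_pi μ (hEc _ _ hφ)),
    integral_E μ _ hg, integral_E μ _ hφ, integral_translate, add_zero, integral_const,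
    probReal_univ, one_smul]
  have : ((-1 : ℝ) ^ (m + 1)) * (-1) ^ (m + 1) = 1 := by rw [← mul_pow]; simp
  linear_combination (norm := ring_nf) -φ g * this

end main

end DevLib
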